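import Cfsg.Agent.H336.Co3.PCases
import Cfsg.Agent.H738.C3.Red

/-!
# S1920, case A: `N` is characteristic in the Sylow 2-subgroups (helper275, from helper336's `Cf.N_char`)
-/

set_option autoImplicit false

open Subgroup Equiv

universe u

namespace Cfsg.Agent.H275.Co3

open Cfsg.Agent.H738.C3 (BD)

/-- **The characteristic subgroup lemma of case A** in the form of `H731.C3.NChar` (`H527.Co3.NChar`). -/
theorem nchar (B : Type u) [Group B] [Finite B] (N : Subgroup B) [hN : N.Normal] (z s : B) (φ : B →* Perm (Fin 6))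
    (D : BD N z s φ) (hA : ∀ b, (∀ n ∈ N, b * n * b⁻¹ * n⁻¹ ∈ zpowers z) → b ∈ N) (T : Sylow 2 B)
    (α : ↥T ≃* ↥T) (t : ↥T) (ht : (t : B) ∈ N) : (α t : B) ∈ N := by
  have hker : φ.ker = N := by
    ext b
    rw [MonoidHom.mem_ker, D.ker]
  have hinv : ∃ h : B, h * s ≠ s * h := by
    by_contra hcon
    push Not at hcon
    rcases D.center s hcon with h | h
    · have h1 := D.ss
      rw [h, one_mul] at h1
      exact D.z1 h1.symm
    · have h1 := D.ss
      rw [h, D.zz] at h1
      exact D.z1 h1.symm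
  have hiso : Nonempty (B ⧸ N ≃* Perm (Fin 6)) :=
    ⟨(QuotientGroup.quotientMulEquivOfEq hker.symm).trans (QuotientGroup.quotientKerEquivOfSurjective φ D.surj)⟩
  have C : Cfsg.Agent.H336.Co3.Cf N z s :=
    Cfsg.Agent.H336.Co3.Cf.mk' hN D.card D.sN D.ss D.zz D.z1 D.scen D.sq D.comm D.cen D.zc hinv hiso hA
  have h1 := C.N_char T α
  have h2 : t ∈ N.subgroupOf (T : Subgroup B) := ht
  have h3 : α t ∈ (N.subgroupOf (T : Subgroup B)).map (α : ↥(T : Subgroup B) ≃* ↥(T : Subgroup B)).toMonoidHom :=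
    mem_map_of_mem _ h2
  rw [h1] at h3
  exact h3

end Cfsg.Agent.H275.Co3
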